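import Cfsg.Agent.H614.AltBlk
import Cfsg.Agent.Blocks.Knorr

/-!
# Constituents of a character of degree 1755 and norm at most 5
-/

set_option autoImplicit false

namespace Cfsg.Agent.H600.EBCnt

open Cfsg
open Cfsg.Agent.Characters.Core
open scoped ComplexConjugate

universe u

theorem sum_sq {G : Type u} [Group G] [Fintype G] [Fintype (IrrCharacter G)] {π : G → ℂ} (hπ : IsClassFunction G π)
    (m : IrrCharacter G → ℕ) (hm : ∀ χ : IrrCharacter G, classInner π (χ : G → ℂ) = m χ) {q : ℕ} (hq : classInner π π = q) :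
    ∑ χ, m χ ^ 2 = q := by
  have h1 := classInner_eq_sum hπ hπ
  rw [hq] at h1
  have h2 : ∀ χ : IrrCharacter G, classInner π (χ : G → ℂ) * conj (classInner π (χ : G → ℂ)) =
      ((m χ ^ 2 : ℕ) : ℂ) := by
    intro χ
    rw [hm, Complex.conj_natCast]
    push_cast
    ring
  rw [Finset.sum_congr rfl fun χ _ => h2 χ] at h1
  exact_mod_cast h1.symm

theorem sum_deg {G : Type u} [Group G] [Fintype G] [Fintype (IrrCharacter G)] {π : G → ℂ} (hπ : IsClassFunction G π)
    (m : IrrCharacter G → ℕ) (hm : ∀ χ : IrrCharacter G, classInner π (χ : G → ℂ) = m χ) {d : ℕ} (hd : π 1 = d) :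
    ∑ χ, m χ * charDegree (χ : G → ℂ) = d := by
  have h1 := congrFun (classFunction_eq_sum hπ) 1
  rw [hd, Finset.sum_apply] at h1
  have h2 : ∀ χ : IrrCharacter G, (classInner π (χ : G → ℂ) • (χ : G → ℂ)) 1 =
      ((m χ * charDegree (χ : G → ℂ) : ℕ) : ℂ) := by
    intro χ
    rw [Pi.smul_apply, hm, (H614.charDegree_pos χ.2).2, smul_eq_mul]
    push_cast
    ring
  rw [Finset.sum_congr rfl fun χ _ => h2 χ] at h1
  exact_mod_cast h1.symm

theorem four {a b c d : ℕ} (ha : 1 ≤ a) (hb : 1 ≤ b) (hc : 1 ≤ c) (hd : 1 ≤ d) (h : a ^ 2 + b ^ 2 + c ^ 2 + d ^ 2 ≤ 5) :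
    a = 1 ∧ b = 1 ∧ c = 1 ∧ d = 1 := by
  refine ⟨?_, ?_, ?_, ?_⟩ <;> nlinarith [sq_nonneg a, sq_nonneg b, sq_nonneg c, sq_nonneg d]

theorem main {G : Type u} [Group G] [Fintype G] {π : G → ℂ} (hπ : IsCharacter G π) {q : ℕ} (hq5 : q ≤ 5)
    (hq : classInner π π = q) (hd : π 1 = (1755 : ℕ)) (hG : Nat.card G = 17971200) (ε α β : IrrCharacter G)
    (hε : charDegree (ε : G → ℂ) = 1) (hα : charDegree (α : G → ℂ) = 78) (hβ : charDegree (β : G → ℂ) = 650)
    (hε' : classInner π (ε : G → ℂ) ≠ 0) (hα' : classInner π (α : G → ℂ) ≠ 0)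
    (hβ' : classInner π (β : G → ℂ) ≠ 0) : classInner π (β : G → ℂ) = 1 ∧
      ∀ θ : IrrCharacter G, charDegree (θ : G → ℂ) = 650 → classInner π (θ : G → ℂ) ≠ 0 → θ = β := by
  classical
  have : Finite (IrrCharacter G) := finite_irr
  let _ : Fintype (IrrCharacter G) := Fintype.ofFinite _
  have hm0 : ∀ χ : IrrCharacter G, ∃ n : ℕ, classInner π (χ : G → ℂ) = n := fun χ =>
    classInner_isNat hπ (isIrr_isCharacter χ.2)
  choose m hm using hm0
  have h1 := sum_sq (isCharacter_isClassFunction hπ) m hm hq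
  have h2 := sum_deg (isCharacter_isClassFunction hπ) m hm hd
  have hpos : ∀ χ : IrrCharacter G, classInner π (χ : G → ℂ) ≠ 0 → 1 ≤ m χ := by
    intro χ hχ
    rw [hm] at hχ
    exact Nat.one_le_iff_ne_zero.2 fun h => hχ (by rw [h]; simp)
  have e1 := hpos ε hε'
  have e2 := hpos α hα'
  have e3 := hpos β hβ'
  have n1 : ε ≠ α := fun h => by rw [h, hα] at hε; omega
  have n2 : ε ≠ β := fun h => by rw [h, hβ] at hε; omega
  have n3 : α ≠ β := fun h => by rw [h, hβ] at hα; omega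
  constructor
  · have h3 : ∑ χ ∈ ({ε, α, β} : Finset (IrrCharacter G)), m χ ^ 2 ≤ 5 :=
      (Finset.sum_le_sum_of_subset (Finset.subset_univ _)).trans (by rw [h1]; exact hq5)
    rw [Finset.sum_insert (by simp [n1, n2]), Finset.sum_insert (by simp [n3]), Finset.sum_singleton] at h3
    have h4 : m β = 1 := by nlinarith
    rw [hm, h4, Nat.cast_one]
  · intro θ hθ hθ'
    by_contra hne
    have e4 := hpos θ hθ'
    have n4 : ε ≠ θ := fun h => by rw [h, hθ] at hε; omega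
    have n5 : α ≠ θ := fun h => by rw [h, hθ] at hα; omega
    have n6 : β ≠ θ := fun h => hne h.symm
    set s : Finset (IrrCharacter G) := {ε, α, β, θ} with hs
    have h3 : ∑ χ ∈ s, m χ ^ 2 = m ε ^ 2 + m α ^ 2 + m β ^ 2 + m θ ^ 2 := by
      rw [hs, Finset.sum_insert (by simp [n1, n2, n4]), Finset.sum_insert (by simp [n3, n5]),
        Finset.sum_insert (by simp [n6]), Finset.sum_singleton]
      ring
    have h4 : ∑ χ ∈ s, m χ * charDegree (χ : G → ℂ) = m ε + m α * 78 + m β * 650 + m θ * 650 := by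
      rw [hs, Finset.sum_insert (by simp [n1, n2, n4]), Finset.sum_insert (by simp [n3, n5]),
        Finset.sum_insert (by simp [n6]), Finset.sum_singleton, hε, hα, hβ, hθ]
      ring
    have h5 := Finset.sum_add_sum_compl s fun χ => m χ ^ 2
    have h6 := Finset.sum_add_sum_compl s fun χ => m χ * charDegree (χ : G → ℂ)
    rw [h1, h3] at h5
    rw [h2, h4] at h6
    obtain ⟨f1, f2, f3, f4⟩ := four e1 e2 e3 e4 (by omega)
    rw [f1, f2, f3, f4] at h5 h6
    have h7 : ∑ χ ∈ sᶜ, m χ * charDegree (χ : G → ℂ) = 376 := by omega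
    have h8 : ∑ χ ∈ sᶜ, m χ ^ 2 ≤ 1 := by omega
    obtain ⟨ψ, hψ, hψ0⟩ := Finset.exists_ne_zero_of_sum_ne_zero (by rw [h7]; norm_num :
      ∑ χ ∈ sᶜ, m χ * charDegree (χ : G → ℂ) ≠ 0)
    have hmψ : m ψ ≠ 0 := fun h => hψ0 (by rw [h, zero_mul])
    have h9 := Finset.add_sum_erase sᶜ (fun χ => m χ ^ 2) hψ
    have h10 := Finset.add_sum_erase sᶜ (fun χ => m χ * charDegree (χ : G → ℂ)) hψ
    rw [h7] at h10
    have h11 : 1 ≤ m ψ ^ 2 := Nat.one_le_iff_ne_zero.2 (pow_ne_zero 2 hmψ)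
    have h12 : ∑ χ ∈ sᶜ.erase ψ, m χ ^ 2 = 0 := by
      omega
    have h13 : ∑ χ ∈ sᶜ.erase ψ, m χ * charDegree (χ : G → ℂ) = 0 := by
      refine Finset.sum_eq_zero fun χ hχ => ?_
      have h14 := Finset.sum_eq_zero_iff.1 h12 χ hχ
      rw [pow_eq_zero_iff two_ne_zero] at h14
      rw [h14, zero_mul]
    rw [h13, add_zero] at h10
    have h15 : m ψ = 1 := by
      have h16 : m ψ ^ 2 ≤ 1 := by
        omega
      nlinarith [Nat.one_le_iff_ne_zero.2 hmψ]
    simp only [h15, one_mul] at h10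
    have h16 := Blocks.Knorr.charDegree_dvd ψ.2
    rw [h10, hG] at h16
    revert h16
    decide

end Cfsg.Agent.H600.EBCnt
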