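import Cfsg.Agent.H600.EB.Orb
import Mathlib.GroupTheory.Sylow

/-!
# The subgroups of order 10240 of the Tits group are the stabilizers of the 1755 points
-/

set_option autoImplicit false
set_option linter.unusedSectionVars false
set_option maxRecDepth 100000

namespace Cfsg.Agent.H600.EBPts

open Cfsg Cfsg.Agent.H707.RowTitsModel Cfsg.Agent.H600.EBOrb
open Cfsg.Agent.SporadicB.RuTits Cfsg.Agent.SporadicB.RuTitsData Cfsg.Agent.SporadicB.RuOrder
open Cfsg.Agent.Lib.BitNet Cfsg.Agent.Lib.BitNetSimple
open MulAction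

universe u

/-- transitivity of the stabilizer of `r 0` on the classes -/
theorem htrT (x : X) : ∃ g : T, g • r 0 = r 0 ∧ g • r (cls x) = x := by
  obtain ⟨k, hk⟩ := orb_i (cls x)
  obtain ⟨g, hg, hgx⟩ := exists_of_iterF (b := (r (cls x)).1) gensT1 hk (cls_spec x)
  exact ⟨⟨g, hg.1⟩, Subtype.ext hg.2, Subtype.ext hgx⟩

theorem cls_eq_zero {y : X} (h : cls y = 0) : y = r 0 := by
  have h1 := count_cls 0
  obtain ⟨a, ha⟩ := Finset.card_eq_one.1 (h1.trans rfl)
  have h2 : y ∈ (Finset.univ.filter fun y : X => cls y = 0) := by simp [h]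
  have h3 : r 0 ∈ (Finset.univ.filter fun y : X => cls y = 0) := by simp [cls_r]
  rw [ha, Finset.mem_singleton] at h2 h3
  rw [h2, h3]

theorem no_clique {x y1 y2 y3 : X} (h1 : E10 x y1 = true) (h2 : E10 x y2 = true) (h3 : E10 x y3 = true)
    (h12 : E10 y1 y2 = true) (h13 : E10 y1 y3 = true) : y2 = y3 := by
  classical
  have h1' := h1
  unfold E10 at h1'
  rw [decide_eq_true_iff] at h1'
  obtain ⟨g, hg, hc⟩ := h1'
  obtain ⟨k, hk, hk'⟩ := htrT (g⁻¹ • y1)
  rw [hc] at hk'
  have hm0 : (g * k) • r 0 = x := by rw [mul_smul, hk, hg]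
  have hm1 : (g * k) • r 1 = y1 := by rw [mul_smul, hk', smul_inv_smul]
  have key : ∀ y, E10 x y = true → E10 y1 y = true →
      (g * k)⁻¹ • y ∈ (Finset.univ.filter fun z : X => E10 (r 1) z = true ∧ cls z = 1) := by
    intro y ha hb
    rw [Finset.mem_filter]
    refine ⟨Finset.mem_univ _, ?_, ?_⟩
    · rw [← E10_smul (g * k), hm1, smul_inv_smul]
      exact hb
    · have h4 : E10 (r 0) ((g * k)⁻¹ • y) = true := by
        rw [← E10_smul (g * k), hm0, smul_inv_smul]
        exact ha
      rw [E10_r] at h4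
      have h5 : (gw 0)⁻¹ • r 0 = r 0 := by rw [inv_smul_eq_iff, gw_r]
      rw [cls_smul _ h5] at h4
      exact h4
  have hcard := EBOrb.count 1 1
  obtain ⟨a, ha⟩ := Finset.card_eq_one.1 (hcard.trans rfl)
  have e2 := key y2 h2 h12
  have e3 := key y3 h3 h13
  rw [ha, Finset.mem_singleton] at e2 e3
  exact smul_left_cancel _ (e2.trans e3.symm)

variable {S : Type u} [Group S] [Finite S] {e : S ≃* T} [MulAction S X] (hact : ∀ (s : S) (x : X), s • x = e s • x)

include hact

theorem act_symm (g : T) (x : X) : e.symm g • x = g • x := by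
  rw [hact, e.apply_symm_apply]

theorem pret : IsPretransitive S X := by
  refine ⟨fun x y => ?_⟩
  obtain ⟨g, hg⟩ := trans x y
  exact ⟨e.symm g, by rw [act_symm hact, hg]⟩

theorem cls_act (s : S) (hs : s • r 0 = r 0) (x : X) : cls (s • x) = cls x := by
  rw [hact] at hs ⊢
  exact cls_smul _ hs x

theorem htr (x : X) : ∃ s : S, s • r 0 = r 0 ∧ s • r (cls x) = x := by
  obtain ⟨g, h1, h2⟩ := htrT x
  exact ⟨e.symm g, by rw [act_symm hact, h1], by rw [act_symm hact, h2]⟩

theorem E10_act (s : S) (x y : X) : E10 (s • x) (s • y) = E10 x y := by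
  rw [hact, hact, E10_smul]

theorem card_stab (x : X) : Nat.card (stabilizer S x) = 10240 := by
  have := pret hact
  have h1 := index_stabilizer_of_transitive S x
  have h2 := Subgroup.card_mul_index (stabilizer S x)
  rw [h1, Nat.card_congr e.toEquiv, card_T, Nat.card_eq_fintype_card (α := X), card_X] at h2
  omega

/-- the orbits of the stabilizer of `r 0` -/
theorem card_orbit (y : X) : Nat.card (orbit (stabilizer S (r 0)) y) = ks (cls y) := by
  have h : orbit (stabilizer S (r 0)) y = ((Finset.univ.filter fun z : X => cls z = cls y : Finset X) : Set X) := by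
    ext z
    simp only [Finset.coe_filter, Finset.mem_univ, true_and, Set.mem_ofPred_eq]
    constructor
    · rintro ⟨s, rfl⟩
      exact cls_act hact s.1 s.2 y
    · intro hz
      obtain ⟨s1, h1, h2⟩ := htr hact y
      obtain ⟨s2, h3, h4⟩ := htr hact z
      refine ⟨⟨s2 * s1⁻¹, ?_⟩, ?_⟩
      · rw [mem_stabilizer_iff, mul_smul, inv_smul_eq_iff.2 h1.symm, h3]
      · show (s2 * s1⁻¹) • y = z
        rw [mul_smul, inv_smul_eq_iff.2 h2.symm, ← hz, h4]
  rw [h, Nat.card_coe_set_eq, Set.ncard_coe_finset, count_cls]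

theorem ks_le {x y : X} {g : S} (hg : g • r 0 = x) :
    ks (cls (g⁻¹ • y)) ≤ Nat.card (orbit (stabilizer S x) y) := by
  rw [← card_orbit hact]
  refine Nat.card_le_card_of_injective (fun z => ⟨g • z.1, ?_⟩) ?_
  · obtain ⟨k, hk⟩ := z.2
    refine ⟨⟨g * k.1 * g⁻¹, ?_⟩, ?_⟩
    · rw [mem_stabilizer_iff, ← hg, mul_smul, inv_smul_smul, mul_smul, mem_stabilizer_iff.1 k.2]
    · show (g * k.1 * g⁻¹) • y = g • z.1
      rw [← hk]
      show (g * k.1 * g⁻¹) • y = g • k.1 • g⁻¹ • y
      rw [mul_smul, mul_smul]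
  · intro z z' h
    have h1 : g • z.1 = g • z'.1 := congrArg Subtype.val h
    exact Subtype.ext (smul_left_cancel g h1)

theorem E10_of_card {x y : X} (hne : y ≠ x) (h : Nat.card (orbit (stabilizer S x) y) ≤ 20) : E10 x y = true := by
  classical
  have := pret hact
  obtain ⟨g, hg⟩ := exists_smul_eq S (r 0) x
  have h1 := (ks_le hact hg (y := y)).trans h
  have h2 : cls (g⁻¹ • y) = 0 ∨ cls (g⁻¹ • y) = 1 := by
    revert h1
    generalize cls (g⁻¹ • y) = i
    revert i
    decide
  rcases h2 with h2 | h2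
  · exfalso
    have h3 := cls_eq_zero h2
    apply hne
    rw [inv_smul_eq_iff] at h3
    rw [h3, hg]
  · unfold E10
    rw [decide_eq_true_iff]
    refine ⟨e g, by rw [← hact, hg], ?_⟩
    rw [← map_inv, ← hact]
    exact h2

theorem stab_inj {x y : X} (h : stabilizer S x = stabilizer S y) : x = y := by
  have := pret hact
  obtain ⟨g, hg⟩ := exists_smul_eq S (r 0) x
  have h1 := ks_le hact hg (y := y)
  have h2 : orbit (stabilizer S x) y = {y} := by
    ext z
    rw [Set.mem_singleton_iff]
    constructor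
    · rintro ⟨k, rfl⟩
      have hk : (k : S) ∈ stabilizer S y := by
        rw [← h]
        exact k.2
      exact hk
    · rintro rfl
      exact mem_orbit_self _
  rw [h2, Nat.card_unique] at h1
  have h3 : cls (g⁻¹ • y) = 0 := by
    revert h1
    generalize cls (g⁻¹ • y) = i
    revert i
    decide
  have h4 := cls_eq_zero h3
  rw [inv_smul_eq_iff] at h4
  rw [h4, hg]

/-- The subgroups of order 10240 are the stabilizers of points. -/
theorem exists_pt (H : Subgroup S) (hH : Nat.card H = 10240) : ∃ x : X, H = stabilizer S x := by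
  classical
  have hf : Fact (Nat.Prime 2) := ⟨Nat.prime_two⟩
  have hpret := pret hact
  obtain ⟨K, hK⟩ := Sylow.exists_subgroup_card_pow_prime (G := H) 2 (n := 11) (by rw [hH]; exact ⟨5, by norm_num⟩)
  have hK2 : IsPGroup 2 K := IsPGroup.of_card hK
  obtain ⟨x, hx⟩ := hK2.nonempty_fixed_point_of_prime_not_dvd_card X (by
    rw [Nat.card_eq_fintype_card, card_X]
    decide)
  have hKx : ∀ k ∈ K, (k : S) • x = x := fun k hk => hx ⟨k, hk⟩
  have hKidx : K.index = 5 := by
    have h1 := Subgroup.card_mul_index K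
    rw [hK, hH] at h1
    omega
  have hKle : K ≤ stabilizer H x := fun k hk => hKx k hk
  have hdvd : (orbit H x).ncard ∣ 5 := by
    rw [← index_stabilizer, ← hKidx]
    exact Subgroup.index_dvd_of_le hKle
  refine ⟨x, ?_⟩
  rcases (Nat.dvd_prime (by norm_num : Nat.Prime 5)).1 hdvd with h1 | h5
  · refine Subgroup.eq_of_le_of_card_ge ?_ (by rw [card_stab hact, hH])
    rw [← index_stabilizer, Subgroup.index_eq_one] at h1
    intro h hh
    have h2 : (⟨h, hh⟩ : H) ∈ stabilizer H x := by
      rw [h1]
      exact Subgroup.mem_top _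
    exact h2
  · exfalso
    set P : Subgroup S := K.map H.subtype with hP
    have hPc : Nat.card P = 2 ^ 11 := by
      rw [← hK]
      exact (Nat.card_congr (K.equivMapOfInjective _ H.subtype_injective).toEquiv).symm
    have hPx : P ≤ stabilizer S x := by
      rintro _ ⟨k, hk, rfl⟩
      exact hKx k hk
    have hPidx : P.relIndex (stabilizer S x) = 5 := by
      have h1 := Subgroup.card_mul_index (P.subgroupOf (stabilizer S x))
      rw [Nat.card_congr (Subgroup.subgroupOfEquivOfLe hPx).toEquiv, hPc, card_stab hact] at h1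
      have h2 : P.relIndex (stabilizer S x) = (P.subgroupOf (stabilizer S x)).index := rfl
      omega
    -- the points of the orbit are collinear with `x`
    have hcol : ∀ y ∈ orbit H x, y ≠ x → E10 x y = true := by
      intro y hy hne
      refine E10_of_card hact hne ?_
      have h1 : (stabilizer S y).relIndex P ≤ 4 := by
        have h2 : (stabilizer S y).relIndex P = (orbit P y).ncard := index_stabilizer (G := P) y
        rw [h2]
        have h3 : orbit P y ⊆ orbit H x \ {x} := by
          rintro _ ⟨⟨_, k, hk, rfl⟩, rfl⟩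
          refine ⟨?_, ?_⟩
          · obtain ⟨h, rfl⟩ := hy
            exact ⟨k * h, by show ((k * h : H) : S) • x = _; rw [Subgroup.coe_mul, mul_smul]; rfl⟩
          · intro h4
            apply hne
            have h5 : (k : S) • y = x := h4
            rw [← inv_smul_eq_iff.2 h5.symm]
            have h6 := hKx k⁻¹ (inv_mem hk)
            rwa [Subgroup.coe_inv] at h6
        have h4 := Set.ncard_le_ncard h3 (Set.toFinite _)
        rw [Set.ncard_sdiff_singleton_of_mem (mem_orbit_self x), h5] at h4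
        exact h4
      have h2 : Nat.card (orbit (stabilizer S x) y) = (stabilizer S y).relIndex (stabilizer S x) := by
        rw [Nat.card_coe_set_eq]
        exact (index_stabilizer (G := stabilizer S x) y).symm
      rw [h2]
      have h3 : (stabilizer S y).relIndex (stabilizer S x) ≤
          (stabilizer S y ⊓ P).relIndex (stabilizer S x) :=
        Subgroup.relIndex_le_of_le_left inf_le_left Subgroup.index_ne_zero_of_finite
      have h4 := Subgroup.relIndex_mul_relIndex (stabilizer S y ⊓ P) P (stabilizer S x) inf_le_right hPx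
      rw [Subgroup.inf_relIndex_right, hPidx] at h4
      omega
    have hcol2 : ∀ y ∈ orbit H x, ∀ z ∈ orbit H x, z ≠ y → E10 y z = true := by
      rintro _ ⟨h, rfl⟩ z ⟨k, rfl⟩ hne
      show E10 ((h : S) • x) ((k : S) • x) = true
      have h1 : ((k : S) • x) = (h : S) • ((h : S)⁻¹ • (k : S) • x) := by rw [smul_inv_smul]
      rw [h1, E10_act hact]
      refine hcol _ ⟨h⁻¹ * k, by show ((h⁻¹ * k : H) : S) • x = _; rw [Subgroup.coe_mul, mul_smul]; rfl⟩ ?_
      intro h2
      apply hne
      show (k : S) • x = (h : S) • x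
      rw [inv_smul_eq_iff] at h2
      exact h2
    have h6 : 2 < (orbit H x \ {x}).ncard := by
      rw [Set.ncard_sdiff_singleton_of_mem (mem_orbit_self x), h5]
      norm_num
    obtain ⟨a, b, c, ha, hb, hc, hab, hac, hbc⟩ := (Set.two_lt_ncard_iff (Set.toFinite _)).1 h6
    exact hbc (no_clique (hcol a ha.1 ha.2) (hcol b hb.1 hb.2) (hcol c hc.1 hc.2)
      (hcol2 a ha.1 b hb.1 (Ne.symm hab)) (hcol2 a ha.1 c hc.1 (Ne.symm hac)))

end Cfsg.Agent.H600.EBPts
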