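import Cfsg.Agent.H678.DG.Sph
import Cfsg.Agent.H694.DGood
import Cfsg.Agent.H614.AltBlk

/-!
# Constituents of permutation characters from spherical functions

The theorems of `Cfsg.Agent.H678.DG.Sph` with the information that the character is a constituent of the permutation
character.
-/

set_option autoImplicit false

namespace Cfsg.Agent.H600.EBSph

open Cfsg Representation
open Cfsg.Agent.H678.DG.Sph Cfsg.Agent.H694
open scoped ComplexConjugate

universe u v

variable {G : Type u} [Group G] [Fintype G] {X : Type v} [Fintype X] [MulAction G X]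

theorem sum_stab {V : Type*} [AddCommGroup V] [Module ℂ V] [FiniteDimensional ℂ V] (ρ : Representation ℂ G V)
    (H : Subgroup G) [Fintype H] : ∑ h : H, ρ.character h =
      ((Nat.card H * Module.finrank ℂ (invariants (ρ.comp H.subtype)) : ℕ) : ℂ) := by
  have hc : (Nat.card H : ℂ) ≠ 0 := by exact_mod_cast Nat.card_pos.ne'
  let _ : Invertible (Nat.card H : ℂ) := invertibleOfNonzero hc
  have h := card_inv_mul_sum_char_eq_finrank (k := ℂ) (ρ.comp H.subtype : Representation ℂ H V)
  push_cast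
  rw [← h, ← mul_assoc, mul_inv_cancel₀ hc, one_mul]
  rfl

theorem inner_ne_zero {V : Submodule ℂ (X → ℂ)} (hV : ∀ (g : G), ∀ φ ∈ V, (fun x => φ (g⁻¹ • x)) ∈ V) (x₀ : X)
    {v : X → ℂ} (hv : v ∈ V) (hv1 : v x₀ = 1) (hvK : ∀ g : G, g • x₀ = x₀ → ∀ x, v (g • x) = v x) :
    classInner (permC G X) (rep V hV).character ≠ 0 := by
  classical
  set χ := (rep V hV).character with hχ
  let D : X → ℕ := fun x =>
    Nat.card (MulAction.stabilizer G x) *
      Module.finrank ℂ (invariants ((rep V hV).comp (MulAction.stabilizer G x).subtype))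
  have key : ∀ x, ∑ g : G, (if g • x = x then χ g else 0) = (D x : ℂ) := by
    intro x
    rw [← Finset.sum_filter]
    have h1 := sum_stab (rep V hV) (MulAction.stabilizer G x)
    rw [← h1]
    symm
    refine Finset.sum_bij (fun h _ => (h : G)) ?_ ?_ ?_ ?_
    · intro h _
      rw [Finset.mem_filter]
      exact ⟨Finset.mem_univ _, h.2⟩
    · intro a _ b _ h
      exact Subtype.ext h
    · intro g hg
      rw [Finset.mem_filter] at hg
      exact ⟨⟨g, hg.2⟩, Finset.mem_univ _, rfl⟩
    · intro h _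
      rfl
  have h2 : ∑ g : G, permC G X g * conj (χ g) = ((∑ x, D x : ℕ) : ℂ) := by
    have h3 : ∑ g : G, permC G X g * χ g = ((∑ x, D x : ℕ) : ℂ) := by
      push_cast
      rw [Finset.sum_congr rfl fun x _ => (key x).symm, Finset.sum_comm]
      refine Finset.sum_congr rfl fun g _ => ?_
      rw [← Finset.sum_filter, Finset.sum_const, nsmul_eq_mul, permC]
      congr 2
      rw [Nat.card_eq_fintype_card]
      exact Fintype.card_subtype _
    have h4 := congrArg conj h3
    rw [Complex.conj_natCast, map_sum] at h4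
    rw [← h4]
    refine Finset.sum_congr rfl fun g _ => ?_
    rw [map_mul, permC, Complex.conj_natCast]
  rw [Cfsg.Agent.Characters.Core.classInner_def, h2]
  have h5 : 0 < D x₀ := by
    refine Nat.mul_pos Nat.card_pos ?_
    have h6 : (⟨v, hv⟩ : V) ∈ invariants ((rep V hV).comp (MulAction.stabilizer G x₀).subtype) := by
      rintro ⟨g, hg⟩
      apply Subtype.ext
      funext x
      show v (g⁻¹ • x) = v x
      exact hvK g⁻¹ (by rw [inv_smul_eq_iff]; exact (MulAction.mem_stabilizer_iff.1 hg).symm) x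
    have hnt : Nontrivial ↥(invariants ((rep V hV).comp (MulAction.stabilizer G x₀).subtype)) := by
      refine ⟨⟨_, h6⟩, 0, fun h => ?_⟩
      have h7 : v = 0 := congrArg (fun w => ((w : V) : X → ℂ)) (congrArg Subtype.val h)
      rw [h7] at hv1
      exact one_ne_zero hv1.symm
    exact Module.finrank_pos (R := ℂ) (M := ↥(invariants ((rep V hV).comp (MulAction.stabilizer G x₀).subtype)))
  have h6 : 0 < ∑ x, D x := lt_of_lt_of_le h5 (Finset.single_le_sum (fun x _ => Nat.zero_le _) (Finset.mem_univ x₀))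
  refine mul_ne_zero (inv_ne_zero ?_) ?_
  · exact_mod_cast (Nat.card_pos (α := G)).ne'
  · exact_mod_cast h6.ne'

section graph

variable {n : ℕ}

theorem exists_of_kernel [MulAction.IsPretransitive G X] (E : X → X → ℂ)
    (hE : ∀ (g : G) x y, E (g • x) (g • y) = E x y) (x₀ : X)
    (cls : X → Fin n) (r : Fin n → X) (hcls : ∀ g : G, g • x₀ = x₀ → ∀ x, cls (g • x) = cls x)
    (htr : ∀ x, ∃ g : G, g • x₀ = x₀ ∧ g • r (cls x) = x) (B : Fin n → Fin n → ℂ)
    (hB : ∀ i j, ∑ y ∈ Finset.univ.filter (fun y => cls y = j), E (r i) y = B i j)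
    (k : Fin n → ℕ) (hk : ∀ j, (Finset.univ.filter fun y => cls y = j).card = k j)
    (a : Fin n → ℂ) (t : ℂ) (hBa : ∀ i, ∑ j, B i j * a j = t * a i)
    (huniq : ∀ a' : Fin n → ℂ, (∀ i, ∑ j, B i j * a' j = t * a' i) → ∀ i, a' i = a' (cls x₀) * a i)
    (ha : a (cls x₀) = 1) :
    ∃ χ : IrrCharacter G, (charDegree (χ : G → ℂ) : ℂ) * ∑ j, (k j : ℂ) * (a j * conj (a j)) =
      (Fintype.card X : ℂ) ∧ classInner (permC G X) (χ : G → ℂ) ≠ 0 := by
  classical
  have hsum := sum_kernel E cls r B hB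
  let V : Submodule ℂ (X → ℂ) :=
    { carrier := {φ | ∀ x, ∑ y, E x y * φ y = t * φ x}
      add_mem' := by
        intro φ ψ h1 h2 x
        have h3 : ∀ y, E x y * (φ + ψ) y = E x y * φ y + E x y * ψ y := fun y => by
          rw [Pi.add_apply, mul_add]
        rw [Finset.sum_congr rfl fun y _ => h3 y, Finset.sum_add_distrib, h1 x, h2 x, Pi.add_apply]
        ring
      zero_mem' := by
        intro x
        simp
      smul_mem' := by
        intro c φ h1 x
        have h3 : ∀ y, E x y * (c • φ) y = c * (E x y * φ y) := fun y => by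
          rw [Pi.smul_apply, smul_eq_mul]; ring
        rw [Finset.sum_congr rfl fun y _ => h3 y, ← Finset.mul_sum, h1 x, Pi.smul_apply, smul_eq_mul]
        ring }
  have hVm : ∀ φ : X → ℂ, φ ∈ V ↔ ∀ x, ∑ y, E x y * φ y = t * φ x := fun _ => Iff.rfl
  have htrans : ∀ (g : G) (φ : X → ℂ) x, ∑ y, E x y * φ (g⁻¹ • y) = ∑ y, E (g⁻¹ • x) y * φ y := by
    intro g φ x
    rw [← Equiv.sum_comp (MulAction.toPerm g) fun y => E x y * φ (g⁻¹ • y)]
    refine Finset.sum_congr rfl fun y _ => ?_
    rw [MulAction.toPerm_apply, inv_smul_smul]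
    have h1 : E x (g • y) = E (g⁻¹ • x) y := by
      rw [← hE g (g⁻¹ • x) y, smul_inv_smul]
    rw [h1]
  have hVG : ∀ (g : G), ∀ φ ∈ V, (fun x => φ (g⁻¹ • x)) ∈ V := by
    intro g φ h1
    rw [hVm] at h1 ⊢
    intro x
    rw [htrans, h1]
  have he : (fun x => a (cls x)) ∈ V := by
    rw [hVm]
    intro x
    obtain ⟨g, hg, hx⟩ := htr x
    have h1 := htrans g⁻¹ (fun y => a (cls y)) (r (cls x))
    rw [inv_inv, hx] at h1
    rw [← h1]
    have h2 : ∀ y, E (r (cls x)) y * a (cls (g • y)) = E (r (cls x)) y * a (cls y) := by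
      intro y
      rw [hcls g hg]
    rw [Finset.sum_congr rfl fun y _ => h2 y, hsum, hBa]
  have hK : ∀ g : G, g • x₀ = x₀ → ∀ x, a (cls (g • x)) = a (cls x) := fun g hg x => by rw [hcls g hg]
  obtain ⟨χ, hχ, hχ'⟩ := exists_of_spherical hVG x₀ he ha hK (by
    intro φ hφ hK
    let a' : Fin n → ℂ := fun i => φ (r i)
    have haφ : ∀ x, φ x = a' (cls x) := by
      intro x
      obtain ⟨g, hg, hx⟩ := htr x
      show φ x = φ (r (cls x))
      rw [← hK g hg (r (cls x)), hx]
    have h2 : ∀ i, ∑ j, B i j * a' j = t * a' i := by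
      intro i
      rw [← hsum a' i]
      have h3 := (hVm φ).1 hφ (r i)
      rw [Finset.sum_congr rfl fun y _ => by rw [haφ y]] at h3
      exact h3
    refine ⟨a' (cls x₀), funext fun x => ?_⟩
    show φ x = a' (cls x₀) * a (cls x)
    rw [haφ, huniq a' h2])
  refine ⟨χ, by rw [← nrm_cls cls k hk a]; exact hχ, ?_⟩
  rw [hχ']
  exact inner_ne_zero hVG x₀ he ha hK

/-- The rational case with a certificate `L` for the simplicity of the eigenvalue. -/
theorem exists_of_graph_rat [MulAction.IsPretransitive G X] (E : X → X → Bool)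
    (hE : ∀ (g : G) x y, E (g • x) (g • y) = E x y) (x₀ : X)
    (cls : X → Fin n) (r : Fin n → X) (hcls : ∀ g : G, g • x₀ = x₀ → ∀ x, cls (g • x) = cls x)
    (htr : ∀ x, ∃ g : G, g • x₀ = x₀ ∧ g • r (cls x) = x) (B : Fin n → Fin n → ℕ)
    (hB : ∀ i j, (Finset.univ.filter fun y => E (r i) y = true ∧ cls y = j).card = B i j)
    (k : Fin n → ℕ) (hk : ∀ j, (Finset.univ.filter fun y => cls y = j).card = k j) (c : Fin n) (hc : cls x₀ = c)
    (a : Fin n → ℚ) (t : ℚ) (L : Fin n → Fin n → ℚ) (d N : ℕ) (hN : Fintype.card X = N)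
    (ha : a c = 1) (hBa : ∀ i, ∑ j, (B i j : ℚ) * a j = t * a i)
    (hL : ∀ i j, ∑ l, L i l * ((B l j : ℚ) - if l = j then t else 0) =
      (if i = j then 1 else 0) - if j = c then a i else 0)
    (hd : (d : ℚ) * ∑ j, (k j : ℚ) * (a j * a j) = N) :
    ∃ χ : IrrCharacter G, charDegree (χ : G → ℂ) = d ∧ classInner (permC G X) (χ : G → ℂ) ≠ 0 := by
  classical
  obtain ⟨χ, hχ, hχ'⟩ := exists_of_kernel (fun x y => if E x y = true then 1 else 0) (fun g x y => by rw [hE]) x₀
    cls r hcls htr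
    (fun i j => (B i j : ℂ)) (by
      intro i j
      rw [← hB, ← Finset.sum_filter, Finset.sum_const, nsmul_eq_mul, mul_one, Finset.filter_filter]
      congr 2
      ext y
      simp only [Finset.mem_filter, Finset.mem_univ, true_and]
      tauto) k hk (fun i => (a i : ℂ)) (t : ℂ) (by
    intro i
    exact_mod_cast hBa i) (by
    intro a' h i
    have h1 : ∑ l, (L i l : ℂ) * (∑ j, ((B l j : ℂ) - if l = j then (t : ℂ) else 0) * a' j) = 0 := by
      refine Finset.sum_eq_zero fun l _ => ?_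
      have h2 : ∑ j, ((B l j : ℂ) - if l = j then (t : ℂ) else 0) * a' j = 0 := by
        simp only [sub_mul, ite_mul, zero_mul]
        rw [Finset.sum_sub_distrib, Finset.sum_ite_eq, if_pos (Finset.mem_univ _), h l, sub_self]
      rw [h2, mul_zero]
    have h3 : ∑ l, (L i l : ℂ) * (∑ j, ((B l j : ℂ) - if l = j then (t : ℂ) else 0) * a' j) =
        ∑ j, (∑ l, (L i l : ℂ) * ((B l j : ℂ) - if l = j then (t : ℂ) else 0)) * a' j := by
      simp only [Finset.mul_sum, Finset.sum_mul]
      rw [Finset.sum_comm]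
      refine Finset.sum_congr rfl fun j _ => Finset.sum_congr rfl fun l _ => ?_
      ring
    have h4 : ∀ j, ∑ l, (L i l : ℂ) * ((B l j : ℂ) - if l = j then (t : ℂ) else 0) =
        (if i = j then (1 : ℂ) else 0) - if j = c then (a i : ℂ) else 0 := by
      intro j
      have h5 := congrArg (fun q : ℚ => (q : ℂ)) (hL i j)
      simp only [Rat.cast_sum, Rat.cast_mul, Rat.cast_sub, apply_ite (Rat.cast : ℚ → ℂ),
        Rat.cast_zero, Rat.cast_one, Rat.cast_natCast] at h5
      exact h5
    rw [h3, Finset.sum_congr rfl fun j _ => by rw [h4 j]] at h1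
    simp only [sub_mul, ite_mul, zero_mul, one_mul] at h1
    rw [Finset.sum_sub_distrib, Finset.sum_ite_eq, Finset.sum_ite_eq', if_pos (Finset.mem_univ _),
      if_pos (Finset.mem_univ _)] at h1
    rw [hc]
    linear_combination h1) (by rw [hc, ha]; norm_num)
  refine ⟨χ, ?_, hχ'⟩
  have h1 : ∑ j, (k j : ℂ) * ((a j : ℂ) * conj (a j : ℂ)) = ((∑ j, (k j : ℚ) * (a j * a j) : ℚ) : ℂ) := by
    push_cast
    refine Finset.sum_congr rfl fun j _ => ?_
    rw [← Complex.ofReal_ratCast, Complex.conj_ofReal]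
  rw [h1, hN] at hχ
  have h2 : (charDegree (χ : G → ℂ) : ℚ) * (∑ j, (k j : ℚ) * (a j * a j)) = N := by exact_mod_cast hχ
  have h3 : (∑ j, (k j : ℚ) * (a j * a j)) ≠ 0 := by
    intro h0
    rw [h0, mul_zero] at h2
    have h4 : 0 < Fintype.card X := Fintype.card_pos_iff.2 ⟨x₀⟩
    rw [hN] at h4
    have : (N : ℚ) ≠ 0 := Nat.cast_ne_zero.2 h4.ne'
    exact this h2.symm
  have h4 : (charDegree (χ : G → ℂ) : ℚ) = d := mul_right_cancel₀ h3 (h2.trans hd.symm)
  exact_mod_cast h4

end graph

end Cfsg.Agent.H600.EBSph
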