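import Cfsg.Agent.H600.EB.Low
import Cfsg.Agent.H600.EB.SphC
import Cfsg.Agent.H600.EB.Cnt
import Cfsg.Agent.H600.EB.Pts
import Cfsg.Agent.H610.EB.DRed
import Cfsg.Agent.H684.EB.Base
import Cfsg.Agent.S0157

/-!
# S4522, the row of the Tits group: the group given by permutations
-/

set_option autoImplicit false
set_option maxRecDepth 100000

namespace Cfsg.Agent.H600.EBTits

open Cfsg Cfsg.Agent.Characters Cfsg.Agent.H694
open scoped ComplexConjugate
open Cfsg.Agent.Characters.Core
open Cfsg.Agent.Blocks.Covering (conjIrr)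
open Cfsg.Agent.H610 Cfsg.Agent.H610.EB
open Cfsg.Agent.H707.RowTitsModel Cfsg.Agent.H600.EBOrb
open Cfsg.Agent.SporadicB.RuTits
open MulAction

universe u

/-- the subgroups of order 10240 -/
def XX (S : Type u) [Group S] : Set (Subgroup S) := {H | Nat.card H = 10240}

section S

variable {S : Type u} [Group S] [Fintype S] {e : S ≃* T} [MulAction S X] (hact : ∀ (s : S) (x : X), s • x = e s • x)

include hact

theorem rank_le : ∃ q : ℕ, q ≤ 5 ∧ classInner (permC S X) (permC S X) = q := by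
  refine ⟨_, ?_, classInner_permC S X X⟩
  have := EBPts.pret hact
  have h : Function.Surjective (fun i : Fin 5 => (Quotient.mk (orbitRel S (X × X)) (r 0, r i) :
      orbitRel.Quotient S (X × X))) := by
    intro q
    induction q using Quotient.inductionOn with
    | h p =>
      obtain ⟨x, y⟩ := p
      obtain ⟨g, hg⟩ := exists_smul_eq S (r 0) x
      obtain ⟨s, hs, hs'⟩ := EBPts.htr hact (g⁻¹ • y)
      refine ⟨cls (g⁻¹ • y), Quotient.sound ?_⟩
      have h1 : (r 0, r (cls (g⁻¹ • y))) ∈ orbit S (x, y) := by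
        refine ⟨(g * s)⁻¹, ?_⟩
        show (g * s)⁻¹ • (x, y) = _
        rw [inv_smul_eq_iff]
        refine Prod.ext ?_ ?_
        · show x = (g * s) • r 0
          rw [mul_smul, hs, hg]
        · show y = (g * s) • r (cls (g⁻¹ • y))
          rw [mul_smul, hs', smul_inv_smul]
      exact h1
  have h1 := Nat.card_le_card_of_surjective _ h
  rwa [Nat.card_eq_fintype_card (α := Fin 5), Fintype.card_fin] at h1

theorem exists_alpha :
    ∃ χ : IrrCharacter S, charDegree (χ : S → ℂ) = 78 ∧ classInner (permC S X) (χ : S → ℂ) ≠ 0 := by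
  have := EBPts.pret hact
  exact EBSph.exists_of_graph_rat E10 (EBPts.E10_act hact) (r 0) cls r (EBPts.cls_act hact) (EBPts.htr hact) B' EBOrb.count
    ks count_cls 0 (cls_r 0) ![1, -1/2, 1/4, -1/8, 1/16] (-5)
    ![![0,0,0,0,0], ![1/10,0,0,0,0], ![-3/40,1/8,0,0,0], ![7/160,-3/32,1/8,0,0], ![-3/128,7/128,-3/32,1/8,0]]
    78 1755 card_X (by decide +kernel) (by decide +kernel) (by decide +kernel) (by decide +kernel)

theorem exists_beta :
    ∃ χ : IrrCharacter S, charDegree (χ : S → ℂ) = 650 ∧ classInner (permC S X) (χ : S → ℂ) ≠ 0 := by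
  have := EBPts.pret hact
  exact EBSph.exists_of_graph_rat E10 (EBPts.E10_act hact) (r 0) cls r (EBPts.cls_act hact) (EBPts.htr hact) B' EBOrb.count
    ks count_cls 0 (cls_r 0) ![1, 1/10, -1/8, -1/80, 1/64] 1
    ![![0,0,0,0,0], ![1/10,0,0,0,0], ![0,1/8,0,0,0], ![-1/80,0,1/8,0,0], ![0,-1/64,0,1/8,0]]
    650 1755 card_X (by decide +kernel) (by decide +kernel) (by decide +kernel) (by decide +kernel)

omit hact in
theorem exists_eps :
    ∃ χ : IrrCharacter S, charDegree (χ : S → ℂ) = 1 ∧ classInner (permC S X) (χ : S → ℂ) ≠ 0 := by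
  refine ⟨⟨fun _ => 1, Blocks.Basic.isIrrCharacter_one⟩, ?_, ?_⟩
  · have h1 := (H614.charDegree_pos (Blocks.Basic.isIrrCharacter_one (G := S))).2
    have h2 : (1 : ℂ) = (charDegree (fun _ : S => (1 : ℂ)) : ℂ) := h1
    exact_mod_cast h2.symm
  · rw [classInner_def]
    have h1 : ∑ g : S, permC S X g * conj ((fun _ : S => (1 : ℂ)) g) = ((∑ g : S, Nat.card (fixedBy X g) : ℕ) : ℂ) := by
      push_cast
      refine Finset.sum_congr rfl fun g _ => ?_
      rw [map_one, mul_one]
      rfl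
    show (Nat.card S : ℂ)⁻¹ * ∑ g : S, permC S X g * conj ((fun _ : S => (1 : ℂ)) g) ≠ 0
    rw [h1]
    have h2 : 0 < ∑ g : S, Nat.card (fixedBy X g) := by
      refine lt_of_lt_of_le ?_ (Finset.single_le_sum (f := fun g : S => Nat.card (fixedBy X g))
        (fun g _ => Nat.zero_le _) (Finset.mem_univ 1))
      have : Nonempty (fixedBy X (1 : S)) := ⟨⟨r 0, one_smul _ _⟩⟩
      exact Nat.card_pos
    refine mul_ne_zero (inv_ne_zero ?_) ?_
    · exact_mod_cast (Nat.card_pos (α := S)).ne'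
    · exact_mod_cast h2.ne'

omit [Fintype S] in
theorem card_S : Nat.card S = 17971200 := by
  have := hact
  rw [Nat.card_congr e.toEquiv, card_T]

theorem exists_phi : ∃ φ : IrrCharacter S, charDegree (φ : S → ℂ) = 650 ∧ classInner (permC S X) (φ : S → ℂ) = 1 ∧
    ∀ θ : IrrCharacter S, charDegree (θ : S → ℂ) = 650 → classInner (permC S X) (θ : S → ℂ) ≠ 0 → θ = φ := by
  obtain ⟨q, hq5, hq⟩ := rank_le hact
  obtain ⟨α, hα, hα'⟩ := exists_alpha hact
  obtain ⟨β, hβ, hβ'⟩ := exists_beta hact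
  obtain ⟨ε, hε, hε'⟩ := exists_eps (S := S)
  have hd : permC S X 1 = (1755 : ℕ) := by
    rw [permC_one, Nat.card_eq_fintype_card, card_X]
  obtain ⟨h1, h2⟩ := EBCnt.main (Cfsg.Agent.S0157.isCharacter_fixedBy X) hq5 hq hd (card_S hact) ε α β hε hα hβ hε' hα' hβ'
  exact ⟨β, hβ, h1, h2⟩

theorem permS_eq_permC : permS (XX S) = permC S X := by
  funext s
  show (Nat.card {H : Subgroup S // H ∈ XX S ∧ H.map (MulAut.conj s).toMonoidHom = H} : ℂ) =
    (Nat.card (fixedBy X s) : ℂ)
  congr 1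
  symm
  refine Nat.card_congr (Equiv.ofBijective (fun x => ⟨stabilizer S x.1, EBPts.card_stab hact x.1, ?_⟩) ⟨?_, ?_⟩)
  · rw [← stabilizer_smul_eq_stabilizer_map_conj, mem_fixedBy.1 x.2]
  · intro x y h
    exact Subtype.ext (EBPts.stab_inj hact (congrArg Subtype.val h))
  · rintro ⟨H, hH, hH'⟩
    obtain ⟨x, rfl⟩ := EBPts.exists_pt hact H hH
    refine ⟨⟨x, ?_⟩, rfl⟩
    rw [mem_fixedBy]
    apply EBPts.stab_inj hact
    rw [stabilizer_smul_eq_stabilizer_map_conj, hH']

end S

theorem four_dvd {S : Type u} [Group S] [Finite S] (hG : ∀ t : S, orderOf t = 2 → OddHalf.Small.Crit.Good t)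
    (hc : Nat.card S = 17971200) (g : S) (hg : Odd (orderOf g)) (hg1 : g ≠ 1) :
    4 ∣ (Subgroup.centralizer ({g} : Set S)).index := by
  have hf : Fact (Nat.Prime 2) := ⟨Nat.prime_two⟩
  by_contra h4
  have hmul := Subgroup.card_mul_index (Subgroup.centralizer ({g} : Set S))
  rw [hc] at hmul
  have h10 : 2 ^ 10 ∣ Nat.card (Subgroup.centralizer ({g} : Set S)) := by
    rcases Nat.even_or_odd' (Subgroup.centralizer ({g} : Set S)).index with ⟨j, hj | hj⟩
    · have hjo : Odd j := by
        by_contra h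
        rw [Nat.not_odd_iff_even] at h
        obtain ⟨i, hi⟩ := h
        exact h4 ⟨i, by omega⟩
      have h5 : Nat.card (Subgroup.centralizer ({g} : Set S)) * j = 2 ^ 10 * 8775 := by
        rw [hj] at hmul
        have : 2 * (Nat.card (Subgroup.centralizer ({g} : Set S)) * j) = 2 * (2 ^ 10 * 8775) := by
          rw [← mul_assoc, mul_comm 2, mul_assoc, hmul]
          norm_num
        exact Nat.eq_of_mul_eq_mul_left (by norm_num) this
      exact ((Nat.coprime_two_left.2 hjo).pow_left 10).dvd_of_dvd_mul_right ⟨8775, h5⟩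
    · have hio : Odd (Subgroup.centralizer ({g} : Set S)).index := ⟨j, hj⟩
      refine ((Nat.coprime_two_left.2 hio).pow_left 10).dvd_of_dvd_mul_right ?_
      rw [hmul]
      norm_num
  obtain ⟨Q, hQ⟩ := Sylow.exists_subgroup_card_pow_prime (G := Subgroup.centralizer ({g} : Set S)) 2 (n := 10) h10
  have hQc : Nat.card (Q.map (Subgroup.subtype _)) = 2 ^ 10 := by
    rw [← hQ]
    exact (Nat.card_congr (Q.equivMapOfInjective _ (Subgroup.subtype_injective _)).toEquiv).symm
  obtain ⟨P, hP⟩ := (IsPGroup.of_card hQc).exists_le_sylow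
  refine hg1 (EBLow.not_comm hG P hP ?_ ?_ hg ?_)
  · obtain ⟨n, hn⟩ := IsPGroup.iff_card.1 P.isPGroup'
    have h1 := Subgroup.card_mul_index ((Q.map (Subgroup.subtype _)).subgroupOf (P : Subgroup S))
    rw [Nat.card_congr (Subgroup.subgroupOfEquivOfLe hP).toEquiv, hQc, hn] at h1
    have h2 : 2 ^ n ∣ 17971200 := by
      rw [← hn, ← hc]
      exact Subgroup.card_subgroup_dvd_card _
    have h3 : 2 ^ n ∣ 2 ^ 11 := by
      have h5 : (17971200 : ℕ) = 2 ^ 11 * 8775 := by norm_num
      rw [h5] at h2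
      exact ((Nat.coprime_two_left.2 (by decide : Odd 8775)).pow_left n).dvd_of_dvd_mul_right h2
    have h4 := Nat.le_of_dvd (by norm_num) h3
    have h5 : (Q.map (Subgroup.subtype _)).relIndex (P : Subgroup S) =
      ((Q.map (Subgroup.subtype _)).subgroupOf (P : Subgroup S)).index := rfl
    rw [← h5] at h1
    omega
  · intro h
    rw [h, Subgroup.card_bot] at hQc
    norm_num at hQc
  · rintro _ ⟨x, hx, rfl⟩
    exact (Subgroup.mem_centralizer_singleton_iff.1 x.2).symm

theorem card_cmap {G : Type u} [Group G] (N : Subgroup G) [N.Normal] (g : G) (H : Subgroup N) :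
    Nat.card (cmap N g H) = Nat.card H :=
  (Nat.card_congr (H.equivMapOfInjective _ (MulEquiv.injective (MulAut.conjNormal g : MulAut N))).toEquiv).symm

/-- The conclusion for the groups isomorphic to `T`, all of whose involutions are good. -/
theorem evenB_of_equiv {K : Type u} [Group K] (e0 : K ≃* T)
    (hG : ∀ t : K, orderOf t = 2 → OddHalf.Small.Crit.Good t) : Cfsg.Agent.H684.EB.EvenB K := by
  intro G _ _ N _ _ hf hC hidx k hk M hM
  obtain ⟨f⟩ := hf
  let e : N ≃* T := f.symm.trans e0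
  let _ : MulAction N X := MulAction.compHom X e.toMonoidHom
  have hact : ∀ (s : N) (x : X), s • x = e s • x := fun _ _ => rfl
  obtain ⟨φ, hφ1, hφ2, hφ3⟩ := exists_phi hact
  have hperm := permS_eq_permC hact
  have hmu : ∀ θ : IrrCharacter N, charDegree (θ : N → ℂ) = 650 → mu (permS (XX N)) (θ : N → ℂ) = 1 → θ = φ := by
    intro θ h1 h2
    refine hφ3 θ h1 fun h3 => ?_
    rw [hperm] at h2
    have h4 : mu (permC N X) (θ : N → ℂ) = 0 := mu_eq (by rw [h3, Int.cast_zero])
    omega
  have hmuφ : mu (permS (XX N)) (φ : N → ℂ) = 1 := by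
    rw [hperm]
    exact mu_eq (by rw [hφ2, Int.cast_one])
  have hX : ∀ g : G, ∀ H ∈ XX N, cmap N g H ∈ XX N := by
    intro g H hH
    show Nat.card (cmap N g H) = 10240
    rw [card_cmap]
    exact hH
  have hXS : ∀ g : N, ∀ H ∈ XX N, H.map (MulAut.conj g).toMonoidHom ∈ XX N := by
    intro g H hH
    rw [← cmap_coe]
    exact hX _ _ hH
  have : Finite (XX N) := Subtype.finite
  have hXinv : ∀ (d : G) (s : N), permS (XX N) (MulAut.conjNormal d s) = permS (XX N) s := by
    intro d s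
    let _ := actSet N (XX N) hX
    rw [← permC_restrict N (XX N) hX, ← permC_restrict N (XX N) hX]
    have h1 := (GC.of_rchar (rchar_perm (G := G) (XX N))).cf (s : G) d
    rw [MulAut.conjNormal_apply]
    exact h1
  have hXk : ∀ s : N, permS (XX N) (s ^ k) = permS (XX N) s := by
    intro s
    let _ := actS (XX N) hXS
    rw [permS_eq (XX N) hXS]
    show (Nat.card (MulAction.fixedBy (XX N) (s ^ k)) : ℂ) = _
    rw [fixedBy_pow (hk.sub N)]
    rfl
  refine concl_of_phi hM N hidx hk (XX N) hX φ ?_ ?_ ?_ ?_ ?_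
  · have hc : Nat.card N = 17971200 := card_S hact
    exact EBLow.mem_of_low hM φ (m := 325) (by decide) hφ1
      (four_dvd (fun t ht => by
        have h1 := OddHalf.Small.Crit.good_map f (hG (f.symm t) (by rw [MulEquiv.orderOf_eq, ht]))
        rwa [f.apply_symm_apply] at h1) hc)
  · refine (Twist.fixed_iff (hk.sub N).coprime φ).1 ?_
    refine hmu _ ?_ ?_
    · rw [charDegree_pw (hk.sub N), hφ1]
    · rw [mu_pow (hk.sub N) hXk, hmuφ]
  · intro g
    refine hmu _ ?_ ?_
    · rw [charDegree_conjIrr, hφ1]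
    · rw [mu_conj_of_inv N g (hXinv g), hmuφ]
  · rw [hφ1]
    decide
  · rw [hmuφ]
    decide

end Cfsg.Agent.H600.EBTits
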