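import Cfsg.Agent.Blocks.PRegular
import Cfsg.Agent.Blocks.CentralProduct
import Cfsg.Agent.H614.AltBlk
import Cfsg.Agent.OddHalf.Small.Crit
import Cfsg.Agent.Lib.NormalAbelian

/-!
# S4522, Tits group: characters of degree `2 m`, centralizers of elements of odd order
-/

set_option autoImplicit false

namespace Cfsg.Agent.H600.EBLow

open Cfsg Subgroup
open Cfsg.Agent.Characters.Core
open Cfsg.Agent.Blocks.LocalRing

universe u

/-- A character of degree `2 m`, `m` odd, lies in the principal `2`-block if all classes of nontrivial elements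
of odd order have order divisible by four. -/
theorem mem_of_low {S : Type u} [Group S] [Fintype S] {M : Ideal AlgInt} (hM : IsPModular 2 M) (φ : IrrCharacter S)
    {m : ℕ} (hm : Odd m) (hd : charDegree (φ : S → ℂ) = 2 * m)
    (h4 : ∀ g : S, Odd (orderOf g) → g ≠ 1 → 4 ∣ (Subgroup.centralizer ({g} : Set S)).index) :
    φ ∈ principalBlock M S := by
  classical
  have : Fact (Nat.Prime 2) := ⟨Nat.prime_two⟩
  have hm0 : (m : ℂ) ≠ 0 := by
    obtain ⟨k, rfl⟩ := hm
    exact_mod_cast (by omega : 2 * k + 1 ≠ 0)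
  have h1 : (φ : S → ℂ) 1 = (2 * m : ℕ) := by
    rw [← hd]
    exact (H614.charDegree_pos φ.2).2
  show SameBlock M (fun _ : S => (1 : ℂ)) φ
  refine Blocks.PRegular.sameBlock_of_isPRegular hM Blocks.Basic.isIrrCharacter_one φ.2 fun g hg => ?_
  by_cases hg1 : g = 1
  · subst hg1
    have h2 : centralChar (fun _ : S => (1 : ℂ)) 1 - centralChar (φ : S → ℂ) 1 = 0 := by
      have h3 : (φ : S → ℂ) 1 ≠ 0 := isIrr_apply_one_ne_zero φ.2
      unfold centralChar
      rw [mul_div_assoc, mul_div_assoc, div_self h3, div_self one_ne_zero, sub_self]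
    rw [h2]
    exact memLocalIdeal_zero hM
  · have ho : Odd (orderOf g) := by
      rw [← Nat.not_even_iff_odd, even_iff_two_dvd]
      exact hg
    obtain ⟨c, hc⟩ := h4 g ho hg1
    refine memLocalIdeal_sub hM ?_ ?_
    · unfold centralChar
      rw [hc, mul_one, div_one]
      exact (memLocalIdeal_natCast_iff hM _).2 ⟨2 * c, by ring⟩
    · have hω : MemLocalRing M (centralChar (φ : S → ℂ) g) :=
        memLocalRing_of_isIntegral hM (Blocks.CentralProduct.isIntegral_centralChar φ.2 g)
      have hv : MemLocalRing M ((φ : S → ℂ) g) :=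
        memLocalRing_of_isIntegral hM (Blocks.CentralProduct.isIntegral_irr φ.2 g)
      have h3 : (m : ℂ) * centralChar (φ : S → ℂ) g = (2 : ℕ) * ((c : ℂ) * (φ : S → ℂ) g) := by
        unfold centralChar
        rw [hc, h1]
        push_cast
        field_simp
        ring
      have h4 : MemLocalIdeal M ((m : ℂ) * centralChar (φ : S → ℂ) g) := by
        rw [h3]
        exact memLocalIdeal_mul_right hM (memLocalIdeal_prime hM)
          (memLocalRing_mul hM (memLocalRing_natCast hM c) hv)
      rcases (memLocalIdeal_mul_iff hM (memLocalRing_natCast hM m) hω).1 h4 with h5 | h5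
      · exfalso
        rw [memLocalIdeal_natCast_iff hM] at h5
        exact (Nat.not_even_iff_odd.2 hm) (even_iff_two_dvd.2 h5)
      · exact h5

/-- coprime action on a group with a centralized subgroup of index two -/
theorem comm_of_index_two {G : Type*} [Group G] [Finite G] {R Q : Subgroup G} (hR : IsPGroup 2 R)
    (hidx : Q.relIndex R ≤ 2) {g : G} (hg : Odd (orderOf g)) (hgR : ∀ x ∈ R, g * x * g⁻¹ ∈ R)
    (hgQ : ∀ x ∈ Q, g * x = x * g) : ∀ x ∈ R, g * x = x * g := by
  intro r hr
  by_cases hrQ : r ∈ Q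
  · exact hgQ r hrQ
  have h0 : Q.relIndex R ≠ 0 := Subgroup.index_ne_zero_of_finite
  have h1 : Q.relIndex R ≠ 1 := by
    intro h
    exact hrQ (Subgroup.relIndex_eq_one.1 h hr)
  have h2 : (Q.subgroupOf R).index = 2 := by
    show Q.relIndex R = 2
    omega
  have h3 : g * r * g⁻¹ ∉ Q := by
    intro h
    apply hrQ
    have h4 := hgQ _ h
    have h5 : r = g * r * g⁻¹ := by
      calc r = g⁻¹ * ((g * r * g⁻¹) * g) := by group
        _ = g⁻¹ * (g * (g * r * g⁻¹)) := by rw [← h4]
        _ = g * r * g⁻¹ := by group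
    rw [h5]
    exact h
  have hq : r⁻¹ * (g * r * g⁻¹) ∈ Q := by
    have h4 := Subgroup.mul_mem_iff_of_index_two h2 (a := (⟨r, hr⟩ : R)⁻¹) (b := ⟨g * r * g⁻¹, hgR r hr⟩)
    rw [inv_mem_iff, Subgroup.mem_subgroupOf, Subgroup.mem_subgroupOf, Subgroup.mem_subgroupOf] at h4
    exact h4.2 ⟨fun h => absurd h hrQ, fun h => absurd h h3⟩
  set q := r⁻¹ * (g * r * g⁻¹) with hqdef
  have hqR : q ∈ R := mul_mem (inv_mem hr) (hgR r hr)
  have hgq := hgQ q hq
  have e1 : g * r = r * q * g := by rw [hqdef]; group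
  have e2 : ∀ n : ℕ, g ^ n * r = r * q ^ n * g ^ n := by
    intro n
    induction n with
    | zero => simp
    | succ n ih =>
      have hc : Commute (g ^ n) q := (show Commute g q from hgq).pow_left n
      rw [pow_succ, mul_assoc, e1, ← mul_assoc, ← mul_assoc, ih, mul_assoc (r * q ^ n), hc.eq, pow_succ]
      group
  have e3 := e2 (orderOf g)
  rw [pow_orderOf_eq_one, one_mul, mul_one] at e3
  have e4 : q ^ orderOf g = 1 := by
    have : r * 1 = r * q ^ orderOf g := by rw [mul_one]; exact e3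
    exact (mul_left_cancel this).symm
  have e5 : q = 1 := by
    obtain ⟨k, hk⟩ := hR ⟨q, hqR⟩
    have hk' : q ^ 2 ^ k = 1 := congrArg Subtype.val hk
    have h6 := Nat.dvd_gcd (orderOf_dvd_of_pow_eq_one e4) (orderOf_dvd_of_pow_eq_one hk')
    have h7 : Nat.gcd (orderOf g) (2 ^ k) = 1 := (Nat.coprime_two_right.2 hg).pow_right k
    rw [h7] at h6
    exact orderOf_eq_one_iff.1 (Nat.dvd_one.1 h6)
  rw [e1, e5, mul_one]

/-- The centralizer of a nontrivial element of odd order contains no subgroup of index at most two of a Sylow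
`2`-subgroup. -/
theorem not_comm {S : Type*} [Group S] [Finite S] (hG : ∀ t : S, orderOf t = 2 → OddHalf.Small.Crit.Good t)
    (P : Sylow 2 S) {Q : Subgroup S} (hQP : Q ≤ P) (hidx : Q.relIndex (P : Subgroup S) ≤ 2) (hQ1 : Q ≠ ⊥) {g : S}
    (hg : Odd (orderOf g)) (hgQ : ∀ x ∈ Q, g * x = x * g) : g = 1 := by
  have hf : Fact (Nat.Prime 2) := ⟨Nat.prime_two⟩
  -- an involution of `Q` in the centre of `P`
  obtain ⟨t, htQ, htP, ht2⟩ : ∃ t ∈ Q, (∀ x ∈ P, x * t = t * x) ∧ orderOf t = 2 := by
    have hPn : Group.IsNilpotent P := P.isPGroup'.isNilpotent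
    have hn : (Q.subgroupOf (P : Subgroup S)).Normal := by
      have h0 : Q.relIndex (P : Subgroup S) ≠ 0 := Subgroup.index_ne_zero_of_finite
      rcases (by omega : Q.relIndex (P : Subgroup S) = 1 ∨ Q.relIndex (P : Subgroup S) = 2) with h | h
      · have h1 : Q.subgroupOf (P : Subgroup S) = ⊤ := Subgroup.index_eq_one.1 h
        rw [h1]
        infer_instance
      · exact Subgroup.normal_of_index_eq_two h
    have hne : Q.subgroupOf (P : Subgroup S) ≠ ⊥ := by
      intro h
      apply hQ1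
      rw [Subgroup.subgroupOf_eq_bot] at h
      rw [eq_bot_iff, ← h.eq_bot]
      exact le_inf le_rfl hQP
    have h1 := Lib.NormalAbelian.normal_inf_center_ne_bot (Q.subgroupOf (P : Subgroup S)) hne
    set Z := Q.subgroupOf (P : Subgroup S) ⊓ Subgroup.center (P : Subgroup S) with hZ
    have hZ2 : IsPGroup 2 Z := P.isPGroup'.to_subgroup Z
    have hZd : 2 ∣ Nat.card Z := by
      have : Nontrivial Z := (Subgroup.nontrivial_iff_ne_bot Z).2 h1
      obtain ⟨n, hn0, hn⟩ := hZ2.nontrivial_iff_card.1 this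
      rw [hn]
      exact dvd_pow_self 2 (by omega)
    obtain ⟨z, hz⟩ := exists_prime_orderOf_dvd_card' 2 hZd
    refine ⟨((z : (P : Subgroup S)) : S), z.2.1, ?_, ?_⟩
    · intro x hx
      exact congrArg Subtype.val (Subgroup.mem_center_iff.1 z.2.2 ⟨x, hx⟩)
    · rw [Subgroup.orderOf_coe, Subgroup.orderOf_coe, hz]
  obtain ⟨R, hR, hRn, hRc⟩ := hG t ht2
  have hgt := hgQ t htQ
  -- `R ≤ P`
  have hRP : R ≤ P := by
    have h1 : IsPGroup 2 ↥((P : Subgroup S) ⊔ R) := by
      refine P.isPGroup'.to_sup_of_normal_right' hR ?_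
      intro x hx
      rw [Subgroup.mem_normalizer_iff]
      intro y
      constructor
      · exact hRn x (htP x hx) y
      · intro hy
        have h2 := hRn x⁻¹ (htP x⁻¹ (inv_mem hx)) _ hy
        have e : x⁻¹ * (x * y * x⁻¹) * x⁻¹⁻¹ = y := by group
        rwa [e] at h2
    have h2 := P.3 h1 le_sup_left
    rw [← h2]
    exact le_sup_right
  refine hRc g hgt ?_ hg
  exact comm_of_index_two hR ((Subgroup.relIndex_le_of_le_right hRP Subgroup.index_ne_zero_of_finite).trans hidx) hg
    (hRn g hgt) hgQ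

end Cfsg.Agent.H600.EBLow
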