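import Cfsg.Agent.H707.RowTitsModel

/-!
# The orbital of valency 10 of the Tits group on the 1755 points

The content of `Cfsg.Agent.H707.Odd.Tits` used in the row of the Tits group of S4522, without the classification in the
imports.
-/

set_option autoImplicit false
set_option maxRecDepth 100000
set_option exponentiation.threshold 5000

namespace Cfsg.Agent.H600.EBOrb

open Cfsg
open Cfsg.Agent.SporadicB.RuData Cfsg.Agent.SporadicB.RuOrder Cfsg.Agent.SporadicB.RuTitsData
open Cfsg.Agent.SporadicB.RuTits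
open Cfsg.Agent.Lib.BitNet Cfsg.Agent.Lib.BitNetSimple
open MulAction Cfsg.Agent.H707.RowTitsModel

/-- the words -/
def w : Fin 5 → List (ℕ × ℕ) := ![[], x0, x0 ++ x1.reverse,
  x0 ++ (x0 ++ (x1 ++ (x1 ++ (x1 ++ (x0 ++ (x0 ++ (x0 ++ x0))))))),
  x0 ++ (x1.reverse ++ (x1.reverse ++ (x0 ++ (x1 ++ x0))))]

theorem mem_nil : Mem T ([] : List (ℕ × ℕ)) := by
  refine ⟨okNet_sound (by decide +kernel), ?_⟩
  have h1 : perm (n := 4060) (l := []) (okNet_sound (by decide +kernel)) = 1 := by
    ext x
    rw [perm_apply]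
    rfl
  rw [h1]
  exact T.one_mem

theorem w_mem : ∀ i, Mem T (w i) := by
  intro i
  have a := tmem0
  have b := tmem1
  have b' := tmem1.reverse
  fin_cases i
  · exact mem_nil
  · exact a
  · exact a.append b'
  · exact a.append (a.append (b.append (b.append (b.append (a.append (a.append (a.append a)))))))
  · exact a.append (b'.append (b'.append (a.append (b.append a))))

theorem w_pt : ∀ i, Nat.beq (appF (w i) 1968) (ry i) = true := by decide +kernel

/-- the group elements -/
noncomputable def gw (i : Fin 5) : T := ⟨perm (w_mem i).choose, (w_mem i).choose_spec⟩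

theorem gw_r (i : Fin 5) : gw i • r 0 = r i := by
  apply Subtype.ext
  rw [smul_val]
  apply Fin.ext
  show (perm (w_mem i).choose (r 0).1 : ℕ) = ry i
  rw [perm_apply]
  have h := Nat.eq_of_beq_eq_true (w_pt i)
  rw [appF_eq] at h
  exact h

theorem cls_smul (g : T) (hg : g • r 0 = r 0) (x : X) : cls (g • x) = cls x := by
  rw [cls_iff, smul_val]
  have h1 : g.1 p1 = p1 := congrArg Subtype.val hg
  rw [inv _ g.2 h1]
  exact cls_spec x

open Classical in
/-- the orbital of valency 10 -/
noncomputable def E10 (x y : X) : Bool := decide (∃ g : T, g • r 0 = x ∧ cls (g⁻¹ • y) = 1)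

theorem E10_smul (g : T) (x y : X) : E10 (g • x) (g • y) = E10 x y := by
  classical
  unfold E10
  rw [decide_eq_decide]
  constructor
  · rintro ⟨h, h1, h2⟩
    refine ⟨g⁻¹ * h, by rw [mul_smul, h1, inv_smul_smul], ?_⟩
    rw [mul_inv_rev, inv_inv, mul_smul]
    exact h2
  · rintro ⟨h, h1, h2⟩
    refine ⟨g * h, by rw [mul_smul, h1], ?_⟩
    rw [mul_inv_rev, mul_smul, inv_smul_smul]
    exact h2

theorem E10_r (i : Fin 5) (y : X) : E10 (r i) y = true ↔ cls ((gw i)⁻¹ • y) = 1 := by
  classical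
  unfold E10
  rw [decide_eq_true_iff]
  constructor
  · rintro ⟨h, h1, h2⟩
    have h3 : (h⁻¹ * gw i) • r 0 = r 0 := by rw [mul_smul, gw_r, ← h1, inv_smul_smul]
    have h4 := cls_smul _ h3 ((gw i)⁻¹ • y)
    rw [mul_smul, smul_inv_smul] at h4
    rw [← h4, h2]
  · intro h
    exact ⟨gw i, gw_r i, h⟩

/-- the image of the class of size 10 -/
noncomputable def im (i : Fin 5) : ℕ := appMF (w i) c10

theorem E10_bit (i : Fin 5) (y : X) : E10 (r i) y = true ↔ (im i).testBit y.1 = true := by
  rw [E10_r, cls_iff, im, appMF_eq]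
  have h1 := testBit_appM (w_mem i).choose.valid c10 (((gw i)⁻¹ • y : X)).1
  have h2 : app (w i) (((gw i)⁻¹ • y : X)).1 = y.1 := by
    have h3 : ((gw i • ((gw i)⁻¹ • y) : X)).1 = y.1 := by rw [smul_inv_smul]
    rw [smul_val] at h3
    have h4 := congrArg Fin.val h3
    have h5 : ((gw i).1 ((gw i)⁻¹ • y : X).1 : ℕ) = app (w i) (((gw i)⁻¹ • y : X)).1 :=
      perm_apply (w_mem i).choose _
    rw [← h5, h4]
  rw [h2] at h1
  rw [h1]
  rfl

/-- the collapsed matrix -/
def B' : Fin 5 → Fin 5 → ℕ := ![![0, 10, 0, 0, 0], ![1, 1, 8, 0, 0], ![0, 1, 1, 8, 0], ![0, 0, 1, 1, 8],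
  ![0, 0, 0, 5, 5]]

/-- the mask of the neighbours of a point in a class -/
noncomputable def nb (i j : Fin 5) : ℕ := Nat.land (cm j) (im i)

theorem nb_card : ∀ i j, Nat.beq (popc 12 (nb i j)) (B' i j) = true := by decide +kernel

theorem nb_lt : ∀ i j, Nat.blt (nb i j) (Nat.pow 2 4060) = true := by decide +kernel

theorem cm_row : ∀ j, Nat.beq (Nat.land (cm j) (row 0)) (cm j) = true := by decide +kernel

theorem row_of_cm {j : Fin 5} {y : ℕ} (h : (cm j).testBit y = true) : (row 0).testBit y = true := by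
  have h1 := Nat.eq_of_beq_eq_true (cm_row j)
  have h2 : Nat.land (cm j) (row 0) = cm j &&& row 0 := rfl
  rw [h2] at h1
  rw [← h1, Nat.testBit_and, Bool.and_eq_true] at h
  exact h.2

theorem card_class (m b : ℕ) (hb : Nat.beq (popc 12 m) b = true) (hlt : Nat.blt m (Nat.pow 2 4060) = true)
    (hrow : ∀ y, m.testBit y = true → (row 0).testBit y = true) (S : Finset X)
    (hS : ∀ y : X, y ∈ S ↔ m.testBit y.1 = true) : S.card = b := by
  have h1 : S.card = (pts 4060 m).card := by
    rw [← Finset.card_map (Function.Embedding.subtype _)]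
    congr 1
    ext y
    rw [Finset.mem_map, mem_pts]
    constructor
    · rintro ⟨z, hz, rfl⟩
      exact (hS z).1 hz
    · intro h
      exact ⟨⟨y, hrow _ h⟩, (hS _).2 h, rfl⟩
  rw [h1]
  have h2 := Nat.eq_of_beq_eq_true hb
  apply le_antisymm
  · rw [← h2]
    exact card_pts_le (by norm_num) _
  · rw [← h2]
    refine card_pts_eq fun k hk => ?_
    by_contra hk'
    rw [Nat.blt_eq] at hlt
    have h4 : m < 2 ^ k := lt_of_lt_of_le hlt (Nat.pow_le_pow_right (by norm_num) (not_lt.1 hk'))
    rw [Nat.testBit_lt_two_pow h4] at hk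
    exact Bool.noConfusion hk

theorem count (i j : Fin 5) : (Finset.univ.filter fun y : X => E10 (r i) y = true ∧ cls y = j).card = B' i j := by
  refine card_class (nb i j) (B' i j) (nb_card i j) (nb_lt i j) ?_ _ ?_
  · intro y hy
    have e : nb i j = cm j &&& im i := rfl
    rw [e, Nat.testBit_and, Bool.and_eq_true] at hy
    exact row_of_cm hy.1
  · intro y
    have e : nb i j = cm j &&& im i := rfl
    rw [e, Nat.testBit_and, Bool.and_eq_true, Finset.mem_filter, E10_bit, cls_iff]
    constructor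
    · rintro ⟨-, h1, h2⟩; exact ⟨h2, h1⟩
    · rintro ⟨h1, h2⟩; exact ⟨Finset.mem_univ _, h2, h1⟩

/-- the sizes -/
def ks : Fin 5 → ℕ := ![1, 10, 80, 640, 1024]

theorem ks_card : ∀ i, Nat.beq (popc 12 (cm i)) (ks i) = true := by decide +kernel

theorem cm_lt : ∀ i, Nat.blt (cm i) (Nat.pow 2 4060) = true := by decide +kernel

theorem count_cls (i : Fin 5) : (Finset.univ.filter fun y : X => cls y = i).card = ks i := by
  refine card_class (cm i) (ks i) (ks_card i) (cm_lt i) (fun y hy => row_of_cm hy) _ ?_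
  intro y
  rw [Finset.mem_filter, cls_iff]
  simp

theorem card_X : Fintype.card X = 1755 := by
  have h1 : (Finset.univ : Finset X).card = ∑ i : Fin 5, (Finset.univ.filter fun y : X => cls y = i).card := by
    rw [Finset.card_eq_sum_card_fiberwise (f := cls) (t := Finset.univ) (fun _ _ => Finset.mem_univ _)]
  rw [← Finset.card_univ, h1, Finset.sum_congr rfl fun i _ => count_cls i]
  decide

theorem trans (x y : X) : ∃ g : T, g • x = y := by
  have h : ∀ x : X, ∃ g : T, g • r 0 = x := by
    intro x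
    have h2 : x.1 ∈ orbit T p1 := by
      rw [orbit_eq]
      exact x.2
    obtain ⟨g, hg⟩ := h2
    exact ⟨g, Subtype.ext hg⟩
  obtain ⟨g, hg⟩ := h x
  obtain ⟨k, hk⟩ := h y
  exact ⟨k * g⁻¹, by rw [mul_smul, ← hg, inv_smul_smul, hk]⟩

end Cfsg.Agent.H600.EBOrb
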