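import Cfsg.Agent.EvenType.ChevTwoTits
import Cfsg.Agent.CpAutTits.Row

/-!
# The involutions of the Tits group
-/

set_option autoImplicit false

namespace Cfsg.Agent.H600.EBTits

open Cfsg

universe u

/-- every involution is good -/
def AllGood (T : Type*) [Group T] : Prop := ∀ x : T, orderOf x = 2 → OddHalf.Small.Crit.Good x

theorem AllGood.congr {T : Type*} [Group T] (hT : AllGood T) {S : Type*} [Group S] (e : S ≃* T) : AllGood S := by
  intro t ht
  have h2 := OddHalf.Small.Crit.good_map e.symm (hT (e t) (by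
    rw [MulEquiv.orderOf_eq, ht]))
  rwa [e.symm_apply_apply] at h2

theorem allGood_TT : AllGood ↥Cfsg.Agent.TitsK.TT := by
  intro x hx
  have hfin : Finite Cfsg.Agent.FourTwo.Base.LL := Cfsg.Agent.FourTwo.Classes.finite_LL
  exact EvenType.ChevTwoTits.good Cfsg.Agent.TitsK.tdata hx

theorem good_S {S : Type u} [Group S] [Finite S] (h : Lie.IsoTits S) (t : S) (ht : orderOf t = 2) :
    OddHalf.Small.Crit.Good t := by
  obtain ⟨e⟩ := CpAutTits.Row.exists_equiv h
  exact allGood_TT.congr e t ht

end Cfsg.Agent.H600.EBTits
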